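/-
Irreducible characters of large degree from an involution moving a character (owner: helper29).

* `exists_irr_moved` : an automorphism of a group of odd order inverting some element `≠ 1` moves an
  irreducible character;
* `exists_irr_index_dvd` : in a rank one set-up with an element `≠ 1` of `G_a ∩ G_ta` inverted by
  `t`, some irreducible character has degree divisible by the number of points;
* `exists_irr_two_part_dvd` : if `G = N C(s)`, `N` odd and normal, `s` inverts some element `≠ 1`
  of `N` and every involution is conjugate to `s` under `N`, some irreducible character has degree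
  divisible by the 2-part of `|G|`.
-/
import Cfsg.Prelude.Def_LieRecognition
import Cfsg.Agent.Lib.CliffordChar.Basic
import Cfsg.Agent.Lib.RankOne.Setup
import Cfsg.Agent.Lib.Involution.Basic
import Cfsg.Agent.Lib.ClassCount.CharSum

set_option autoImplicit false
set_option linter.unusedSectionVars false
set_option linter.style.haveILetI false

namespace Cfsg.Agent.DefectInduced

open Cfsg Cfsg.Agent.Char MulAction
open scoped ComplexConjugate

section Moved

variable {N : Type*} [Group N] [Finite N]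

/-- An element of a group of odd order conjugate to its inverse is trivial. -/
theorem eq_one_of_isConj_inv (hodd : Odd (Nat.card N)) {y : N} (h : IsConj y⁻¹ y) : y = 1 := by
  obtain ⟨c, hc⟩ := isConj_iff.1 h
  have h1 : c * y * c⁻¹ = y⁻¹ := by
    have h0 := congrArg (·⁻¹) hc
    simpa [mul_assoc] using h0
  have h2 : Commute (c * c) y := by
    refine mul_inv_eq_iff_eq_mul.1 ?_
    calc c * c * y * (c * c)⁻¹ = c * (c * y * c⁻¹) * c⁻¹ := by group
      _ = c * y⁻¹ * c⁻¹ := by rw [h1]
      _ = y := hc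
  have hco : Odd (orderOf c) := hodd.of_dvd_nat (orderOf_dvd_natCard c)
  have h3 : Commute c y := by
    obtain ⟨k, hk⟩ := hco
    have h4 : c = (c * c) ^ (k + 1) := by
      rw [← pow_two, ← pow_mul, show 2 * (k + 1) = orderOf c + 1 by omega, pow_succ,
        pow_orderOf_eq_one, one_mul]
    rw [h4]
    exact h2.pow_left _
  rw [h3.eq, mul_inv_cancel_right] at h1
  have hy2 : y * y = 1 := by
    nth_rewrite 1 [h1]
    exact inv_mul_cancel y
  have h5 : orderOf y ∣ 2 := orderOf_dvd_of_pow_eq_one (by rw [pow_two, hy2])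
  have h6 : (orderOf y).Coprime 2 :=
    Nat.coprime_two_right.2 (hodd.of_dvd_nat (orderOf_dvd_natCard y))
  exact orderOf_eq_one_iff.1 (Nat.Coprime.eq_one_of_dvd h6 h5)

/-- An automorphism inverting an element `≠ 1` of a group of odd order moves some character. -/
theorem exists_irr_moved [Fintype N] (hodd : Odd (Nat.card N)) (e : N ≃* N) {y : N} (hy : y ≠ 1)
    (hey : e y = y⁻¹) : ∃ φ : IrrCharacter N, (fun n => (φ : N → ℂ) (e n)) ≠ (φ : N → ℂ) := by
  by_contra! h
  refine hy (eq_one_of_isConj_inv hodd ((isConj_iff_irr y⁻¹ y).2 fun φ => ?_))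
  rw [← hey]
  exact congrFun (h φ) y

end Moved

variable {G : Type*} [Group G] [Finite G]

section RankOne

variable {Ω : Type*} [MulAction G Ω] {a : Ω} {t : G} {Q : Subgroup G}

/-- The projection of the point stabiliser onto the two-point stabiliser. -/
theorem exists_projection (h : Cfsg.IsRankOneSetup G Ω a t Q) :
    ∃ π : stabilizer G a →* ↥(stabilizer G a ⊓ stabilizer G (t • a)),
      ∀ x : stabilizer G a, (hx : (x : G) ∈ stabilizer G a ⊓ stabilizer G (t • a)) → π x = ⟨x, hx⟩ := by
  have hex : ∀ x : stabilizer G a, ∃ d : ↥(stabilizer G a ⊓ stabilizer G (t • a)),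
      (x : G) * (d : G)⁻¹ ∈ Q := by
    intro x
    obtain ⟨q, hq, d, hd, e⟩ := RankOne.Setup.exists_decomp h x.2
    exact ⟨⟨d, hd⟩, by rw [← e, mul_inv_cancel_right]; exact hq⟩
  choose f hf using hex
  have huniq : ∀ (x : stabilizer G a) (d : ↥(stabilizer G a ⊓ stabilizer G (t • a))),
      (x : G) * (d : G)⁻¹ ∈ Q → f x = d := fun x d hd =>
    Subtype.ext (RankOne.Setup.decomp_unique h (hf x) hd (f x).2 d.2
      (by rw [inv_mul_cancel_right, inv_mul_cancel_right])).2
  refine ⟨MonoidHom.mk' f fun x x' => huniq _ _ ?_, fun x hx => huniq _ _ ?_⟩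
  · have h1 := h.conj_mem _ (f x).2.1 _ (hf x')
    have h2 := Q.mul_mem (hf x) h1
    push_cast
    convert h2 using 1
    group
  · rw [mul_inv_cancel]
    exact Q.one_mem

/-- A rank one set-up whose `t` inverts an element `≠ 1` of the two-point stabiliser has an
irreducible character of degree divisible by the number of points. -/
theorem exists_irr_index_dvd (h : Cfsg.IsRankOneSetup G Ω a t Q) {y : G}
    (hy : y ∈ stabilizer G a ⊓ stabilizer G (t • a)) (hy1 : y ≠ 1) (hty : t * y * t = y⁻¹) :
    ∃ χ : IrrCharacter G, (stabilizer G a).index ∣ charDegree (χ : G → ℂ) := by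
  classical
  haveI := Fintype.ofFinite G
  set K := stabilizer G a with hK
  set E := stabilizer G a ⊓ stabilizer G (t • a) with hE
  haveI := Fintype.ofFinite K
  haveI := Fintype.ofFinite E
  let τ : E ≃* E :=
    { toFun := fun d => ⟨t * d * t, RankOne.Setup.t_conj_mem h d.2⟩
      invFun := fun d => ⟨t * d * t, RankOne.Setup.t_conj_mem h d.2⟩
      left_inv := fun d => Subtype.ext (by
        simp only [← mul_assoc, h.mul_self, one_mul]
        rw [mul_assoc, h.mul_self, mul_one])
      right_inv := fun d => Subtype.ext (by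
        simp only [← mul_assoc, h.mul_self, one_mul]
        rw [mul_assoc, h.mul_self, mul_one])
      map_mul' := fun d d' => Subtype.ext (by
        push_cast
        simp only [mul_assoc]
        rw [← mul_assoc t t, h.mul_self, one_mul]) }
  obtain ⟨φ, hφ⟩ := exists_irr_moved h.odd_card τ (y := (⟨y, hy⟩ : E))
    (fun e => hy1 (congrArg Subtype.val e)) (Subtype.ext hty)
  obtain ⟨π, hπ⟩ := exists_projection h
  have hπs : Function.Surjective π := fun d => ⟨⟨d, d.2.1⟩, hπ ⟨d, d.2.1⟩ d.2⟩
  set θ : K → ℂ := fun k => (φ : E → ℂ) (π k) with hθdef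
  have hθ : IsIrrCharacter K θ := IsIrrCharacter.comp_surjective φ.2 π hπs
  have hθcl := IsIrrCharacter.isClassFunction hθ
  set χ := indFun K θ with hχdef
  have hχ : IsCharacter G χ := IsCharacter.indFun K (IsIrrCharacter.isCharacter hθ)
  -- the extension by zero is invariant under `K`
  have hext : ∀ k ∈ K, ∀ g : G, extendByZero K θ (k * g * k⁻¹) = extendByZero K θ g := by
    intro k hk g
    by_cases hg : g ∈ K
    · rw [extendByZero_mem K θ hg, extendByZero_mem K θ (mul_mem (mul_mem hk hg) (inv_mem hk))]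
      exact hθcl ⟨g, hg⟩ ⟨k, hk⟩
    · rw [extendByZero_not_mem K θ hg, extendByZero_not_mem K θ]
      intro h1
      exact hg (by simpa [mul_assoc] using mul_mem (mul_mem (inv_mem hk) h1) hk)
  -- orthogonality off the stabiliser
  have hzero : ∀ x : G, x ∉ K →
      ∑ k : K, θ k * conj (extendByZero K θ (x⁻¹ * (k : G) * x)) = 0 := by
    intro x hx
    obtain ⟨⟨k₁, q⟩, ⟨hk₁, hq, hxe⟩, -⟩ :=
      RankOne.Setup.existsUnique_canonical h (g := x⁻¹) fun e => hx ((inv_mem_iff (H := K)).1 e)
    have hqK : q ∈ K := h.le hq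
    have hterm : ∀ k : K, θ k * conj (extendByZero K θ (x⁻¹ * (k : G) * x)) =
        θ (⟨q, hqK⟩ * k * ⟨q, hqK⟩⁻¹) *
          conj (extendByZero K θ (t * ((⟨q, hqK⟩ * k * ⟨q, hqK⟩⁻¹ : K) : G) * t)) := by
      intro k
      rw [hθcl k ⟨q, hqK⟩]
      congr 2
      rw [show x⁻¹ * (k : G) * x = k₁ * (t * (q * (k : G) * q⁻¹) * t) * k₁⁻¹ by
        rw [show x = (k₁ * t * q)⁻¹ by rw [← hxe, inv_inv]]
        simp only [mul_inv_rev, inv_inv, RankOne.Setup.t_inv h, mul_assoc], hext k₁ hk₁]
      rfl
    rw [Finset.sum_congr rfl fun k _ => hterm k]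
    rw [show (∑ k : K, θ (⟨q, hqK⟩ * k * ⟨q, hqK⟩⁻¹) *
        conj (extendByZero K θ (t * ((⟨q, hqK⟩ * k * ⟨q, hqK⟩⁻¹ : K) : G) * t))) =
        ∑ k : K, θ k * conj (extendByZero K θ (t * (k : G) * t)) from
      Fintype.sum_equiv (MulAut.conj (⟨q, hqK⟩ : K)).toEquiv _ _ fun k => by simp [MulAut.conj_apply]]
    have hsupp : ∀ k : K, (k : G) ∉ E → extendByZero K θ (t * (k : G) * t) = 0 := by
      intro k hk
      refine extendByZero_not_mem K θ fun h1 => hk (Subgroup.mem_inf.2 ⟨k.2, ?_⟩)
      replace h1 : (t * (k : G) * t) • a = a := h1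
      rw [mul_smul, mul_smul] at h1
      rw [mem_stabilizer_iff]
      have := congrArg (t • ·) h1
      rwa [← mul_smul t t, h.mul_self, one_smul] at this
    have hinner : classInner (φ : E → ℂ) (fun d : E => (φ : E → ℂ) (τ d)) = 0 :=
      classInner_irr_of_ne φ.2 (IsIrrCharacter.comp_equiv φ.2 τ) fun e => hφ e.symm
    rw [classInner, mul_eq_zero] at hinner
    have hsum := hinner.resolve_left (inv_ne_zero (Nat.cast_ne_zero.2 Nat.card_pos.ne'))
    rw [← hsum]
    symm
    refine Fintype.sum_of_injective (fun d : E => (⟨d, d.2.1⟩ : K))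
      (fun d d' e => Subtype.ext (congrArg (fun z : K => (z : G)) e)) _ _ (fun k hk => ?_) fun d => ?_
    · rw [hsupp k fun hkE => hk ⟨⟨k, hkE⟩, rfl⟩, map_zero, mul_zero]
    · have hd : t * (d : G) * t ∈ E := RankOne.Setup.t_conj_mem h d.2
      rw [extendByZero_mem K θ hd.1, hθdef]
      simp only
      rw [hπ ⟨d, d.2.1⟩ d.2, hπ ⟨t * (d : G) * t, hd.1⟩ hd]
      rfl
  -- the norm
  have hnorm : classInner χ χ = 1 := by
    rw [hχdef, frobenius_reciprocity K θ (indFun_isClassFunction K θ), classInner]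
    have hval : ∀ k : K, θ k * conj (indFun K θ (k : G)) = θ k * conj (θ k) +
        (Nat.card K : ℂ)⁻¹ * ∑ x ∈ Finset.univ.filter (fun x : G => x ∉ K),
          θ k * conj (extendByZero K θ (x⁻¹ * (k : G) * x)) := by
      intro k
      have hin : ∀ x ∈ Finset.univ.filter (fun x : G => x ∈ K),
          extendByZero K θ (x⁻¹ * (k : G) * x) = θ k := by
        intro x hx
        have hx' : x ∈ K := (Finset.mem_filter.1 hx).2
        have := hext x⁻¹ (inv_mem hx') (k : G)
        rw [inv_inv] at this
        rw [this, extendByZero_coe]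
      have hcard : ((Finset.univ.filter fun x : G => x ∈ K).card : ℂ) = Nat.card K := by
        rw [Nat.card_eq_fintype_card, Fintype.card_of_subtype (Finset.univ.filter fun x : G => x ∈ K) (by simp)]
      simp only [indFun]
      rw [← Finset.sum_filter_add_sum_filter_not Finset.univ (fun x : G => x ∈ K),
        Finset.sum_congr rfl hin, Finset.sum_const, nsmul_eq_mul, hcard, ← Finset.mul_sum]
      have hK0 : (Nat.card K : ℂ) ≠ 0 := Nat.cast_ne_zero.2 Nat.card_pos.ne'
      simp only [map_mul, map_inv₀, map_natCast, map_add, map_sum]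
      field_simp
    rw [Finset.sum_congr rfl fun k _ => hval k, Finset.sum_add_distrib, ← Finset.mul_sum,
      Finset.sum_comm, Finset.sum_eq_zero (fun x hx => hzero x (Finset.mem_filter.1 hx).2),
      mul_zero, add_zero]
    have h1 := classInner_irr_self hθ
    rwa [classInner] at h1
  have hirr : IsIrrCharacter G χ := (isIrrCharacter_iff_norm_one hχ).2 hnorm
  refine ⟨⟨χ, hirr⟩, charDegree (φ : E → ℂ), ?_⟩
  have h1 := ClassCount.apply_one_eq_charDegree (⟨χ, hirr⟩ : IrrCharacter G)
  change χ 1 = _ at h1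
  rw [show χ 1 = (K.index : ℂ) * θ 1 from indFun_one_apply K θ,
    show θ 1 = (φ : E → ℂ) 1 by rw [hθdef]; simp [map_one],
    ClassCount.apply_one_eq_charDegree φ, ← Nat.cast_mul, Nat.cast_inj] at h1
  exact h1.symm

end RankOne

section OddNormal

/-- A character of `N` moved by `s` gives one of `G` with degree divisible by the 2-part. -/
theorem exists_irr_two_part_dvd {N : Subgroup G} [N.Normal] (hodd : Odd (Nat.card N)) {s y : G}
    (hy : y ∈ N) (hy1 : y ≠ 1) (hsy : s * y * s⁻¹ = y⁻¹)
    (hconj : ∀ w : G, orderOf w = 2 → ∃ n ∈ N, n * s * n⁻¹ = w) :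
    ∃ χ : IrrCharacter G, 2 ^ (Nat.card G).factorization 2 ∣ charDegree (χ : G → ℂ) := by
  classical
  haveI := Fintype.ofFinite G
  haveI := Fintype.ofFinite N
  haveI : Fintype (IrrCharacter G) := Fintype.ofFinite _
  have hey : (MulAut.conjNormal (H := N) s) ⟨y, hy⟩ = (⟨y, hy⟩ : N)⁻¹ :=
    Subtype.ext ((MulAut.conjNormal_apply s (⟨y, hy⟩ : N)).trans hsy)
  obtain ⟨φ, hφ⟩ := exists_irr_moved hodd (MulAut.conjNormal (H := N) s)
    (fun e : (⟨y, hy⟩ : N) = 1 => hy1 (congrArg Subtype.val e)) hey
  have hmov : CliffordChar.conjFun N s (φ : N → ℂ) ≠ (φ : N → ℂ) := fun e => hφ (by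
    funext n
    have := congrFun e ((MulAut.conjNormal (H := N) s) n)
    simp only [CliffordChar.conjFun, map_inv] at this
    rw [MulAut.inv_apply_self] at this
    exact this.symm)
  have hnfix : ∀ n ∈ N, CliffordChar.conjFun N n (φ : N → ℂ) = (φ : N → ℂ) := by
    intro n hn
    funext m
    rw [CliffordChar.conjFun_apply]
    have h1 := IsIrrCharacter.isClassFunction φ.2 m ⟨n, hn⟩⁻¹
    rw [← h1]
    exact congrArg _ (Subtype.ext (by simp [Subgroup.coe_mul, Subgroup.coe_inv]))
  -- the inertia group has odd order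
  let I : Subgroup G :=
    { carrier := {x | CliffordChar.conjFun N x (φ : N → ℂ) = (φ : N → ℂ)}
      one_mem' := CliffordChar.conjFun_one N _
      mul_mem' := fun {x x'} hx hx' => by
        show CliffordChar.conjFun N (x * x') (φ : N → ℂ) = _
        rw [CliffordChar.conjFun_mul, show CliffordChar.conjFun N x' (φ : N → ℂ) = φ from hx']
        exact hx
      inv_mem' := fun {x} hx => by
        show CliffordChar.conjFun N x⁻¹ (φ : N → ℂ) = _
        conv_lhs => rw [← show CliffordChar.conjFun N x (φ : N → ℂ) = φ from hx]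
        rw [← CliffordChar.conjFun_mul, inv_mul_cancel, CliffordChar.conjFun_one] }
  have hIodd : Odd (Nat.card I) := by
    by_contra hev
    haveI : Fact (Nat.Prime 2) := ⟨Nat.prime_two⟩
    obtain ⟨w, hw⟩ := exists_prime_orderOf_dvd_card' 2
      (even_iff_two_dvd.1 (Nat.not_odd_iff_even.1 hev))
    rw [← Subgroup.orderOf_coe] at hw
    obtain ⟨n, hn, hnw⟩ := hconj w hw
    have hnI : n ∈ I := hnfix n hn
    have hsI : s ∈ I := by
      have := mul_mem (mul_mem (inv_mem hnI) w.2) hnI
      rwa [← hnw, show n⁻¹ * (n * s * n⁻¹) * n = s by group] at this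
    exact hmov hsI
  -- a constituent
  obtain ⟨χ, hχ⟩ : ∃ χ : IrrCharacter G,
      classInner (fun n : N => (χ : G → ℂ) n) (φ : N → ℂ) ≠ 0 := by
    by_contra! h
    have h0 : indFun N (φ : N → ℂ) = 0 :=
      eq_zero_of_forall_classInner_irr (indFun_isClassFunction N _) fun χ => by
        rw [frobenius_reciprocity N _ (IsIrrCharacter.isClassFunction χ.2), ← classInner_conj_symm,
          h χ, map_zero]
    have := congrFun h0 1
    rw [indFun_one_apply, Pi.zero_apply, mul_eq_zero] at this
    exact this.elim (Nat.cast_ne_zero.2 Subgroup.index_ne_zero_of_finite)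
      (IsIrrCharacter.apply_one_ne_zero φ.2)
  refine ⟨χ, ?_⟩
  obtain ⟨m, hm⟩ := IsCharacter.classInner_nat
    (IsCharacter.restrict (IsIrrCharacter.isCharacter χ.2) N) (IsIrrCharacter.isCharacter φ.2)
  have hb : classInner (CliffordChar.orbitSum N (φ : N → ℂ)) (φ : N → ℂ) = Nat.card I := by
    rw [CliffordChar.classInner_orbitSum N φ.2 φ.2, Nat.card_eq_fintype_card]
    congr 1
    exact (Fintype.card_of_subtype _ fun x => by simp [I, Subgroup.mem_mk]).symm
  have h1 := congrFun (CliffordChar.restrict_eq N χ.2 φ.2 hχ) 1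
  simp only [Pi.smul_apply, smul_eq_mul, Subgroup.coe_one] at h1
  have hsum : CliffordChar.orbitSum N (φ : N → ℂ) 1 = Nat.card G * (φ : N → ℂ) 1 := by
    rw [CliffordChar.orbitSum, Finset.sum_apply,
      Finset.sum_congr rfl (fun x _ => show CliffordChar.conjFun N x (φ : N → ℂ) 1 = (φ : N → ℂ) 1 by
        simp [CliffordChar.conjFun]),
      Finset.sum_const, nsmul_eq_mul, Finset.card_univ, Nat.card_eq_fintype_card]
  rw [hm, hb, hsum, ClassCount.apply_one_eq_charDegree χ, ClassCount.apply_one_eq_charDegree φ] at h1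
  have h2 : charDegree (χ : G → ℂ) * Nat.card I = Nat.card G * (m * charDegree (φ : N → ℂ)) := by
    have hI0 : (Nat.card I : ℂ) ≠ 0 := Nat.cast_ne_zero.2 Nat.card_pos.ne'
    have : (charDegree (χ : G → ℂ) : ℂ) * Nat.card I =
        Nat.card G * (m * charDegree (φ : N → ℂ)) := by
      rw [h1]; field_simp
    exact_mod_cast this
  exact ((Nat.coprime_two_left.2 hIodd).pow_left _).dvd_of_dvd_mul_right
    (h2 ▸ (Nat.ordProj_dvd (Nat.card G) 2).mul_right _)

end OddNormal

end Cfsg.Agent.DefectInduced
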