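/-
Transitive groups of prime power degree in which the centralisers of nontrivial `p`-elements have odd
order (owner: helper29).

* `defect_zero_or_solvable` : an irreducible character of `p`-defect zero, or `p`-solvable with one
  of 2-defect zero; from `RankOneHalf` (a core-free strongly embedded subgroup with two commuting
  involutions gives a rank one set-up).
-/
import Cfsg.Agent.Lib.DefectInduced.Basic
import Cfsg.Agent.Lib.ClassCount.NoTwoP
import Cfsg.Agent.Lib.Bender.Final
import Cfsg.Agent.Lib.Bender.Sharp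
import Cfsg.Agent.Lib.FusionResidual.Models
import Cfsg.Agent.Lib.OddOrderTheorem.Basic

set_option autoImplicit false
set_option linter.unusedSectionVars false
set_option linter.style.haveILetI false

namespace Cfsg.Agent.DefectInduced

open Cfsg Cfsg.Agent MulAction Bender

universe u v

variable {G : Type u} {Ω : Type v} [Group G] [Finite G] [MulAction G Ω] [FaithfulSMul G Ω]
  [Finite Ω] {p : ℕ} [hp : Fact p.Prime]

/-- A power dividing the divisor `d` of `n` and equal to the part of `n` is the part of `d`. -/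
theorem factorization_eq_of_dvd {q d n : ℕ} (hq : q.Prime) (hn : n ≠ 0)
    (h1 : q ^ n.factorization q ∣ d) (h2 : d ∣ n) : d.factorization q = n.factorization q := by
  have hd : d ≠ 0 := fun e => hn (Nat.eq_zero_of_zero_dvd (e ▸ h2))
  exact le_antisymm ((Nat.factorization_le_iff_dvd hd hn).2 h2 q)
    ((hq.pow_dvd_iff_le_factorization hd).1 h1)

/-- The Sylow subgroup is regular. -/
theorem sylow_regular [IsPretransitive G Ω] {r : ℕ} (hΩ : Nat.card Ω = p ^ r) (P : Sylow p G)
    (hab : IsMulCommutative (P : Subgroup G)) (α : Ω) :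
    (∀ β : Ω, ∃ z ∈ (P : Subgroup G), z • α = β) ∧
      (∀ z ∈ (P : Subgroup G), z • α = α → z = 1) ∧ (Nat.card G).factorization p = r := by
  have hidx : (stabilizer G α).index = p ^ r := by rw [index_stabilizer_of_transitive, hΩ]
  set A := (Nat.card G).factorization p with hA
  have hPcard : Nat.card (P : Subgroup G) = p ^ A := Sylow.card_eq_multiplicity P
  have hsurj : ∀ β : Ω, ∃ z : (P : Subgroup G), z • α = β := by
    set S := stabilizer (P : Subgroup G) α with hS
    have hSle : S.map (P : Subgroup G).subtype ≤ stabilizer G α := by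
      rintro _ ⟨z, hz, rfl⟩
      exact hz
    have h1 : Nat.card S ∣ Nat.card (stabilizer G α) := by
      rw [← Subgroup.card_map_of_injective (P : Subgroup G).subtype_injective]
      exact Subgroup.card_dvd_of_le hSle
    have h2 : Nat.card S * p ^ r ∣ p ^ A * 1 := by
      rw [mul_one]
      obtain ⟨k, hk⟩ := IsPGroup.iff_card.1 (P.isPGroup'.to_subgroup S)
      have h3 : Nat.card S * p ^ r ∣ Nat.card G := by
        rw [← Subgroup.card_mul_index (stabilizer G α), hidx]
        exact mul_dvd_mul_right h1 _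
      rw [hk, ← pow_add] at h3 ⊢
      exact pow_dvd_pow p ((hp.out.pow_dvd_iff_le_factorization Nat.card_pos.ne').1 h3)
    have h4 : Nat.card S * S.index = p ^ A := by rw [Subgroup.card_mul_index, hPcard]
    have h5 : p ^ r ≤ S.index := by
      refine Nat.le_of_mul_le_mul_left ?_ (Nat.card_pos (α := S))
      rw [h4]
      exact Nat.le_of_dvd (pow_pos hp.out.pos _) (by rwa [mul_one] at h2)
    rw [index_stabilizer] at h5
    have h6 : MulAction.orbit (P : Subgroup G) α = Set.univ :=
      Set.eq_of_subset_of_ncard_le (Set.subset_univ _) (by rwa [Set.ncard_univ, hΩ]) Set.finite_univ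
    intro β
    exact (h6.symm ▸ Set.mem_univ β : β ∈ MulAction.orbit (P : Subgroup G) α)
  have hfree : ∀ z ∈ (P : Subgroup G), z • α = α → z = 1 := by
    intro z hz hzα
    refine eq_of_smul_eq_smul (α := Ω) fun β => ?_
    obtain ⟨w, rfl⟩ := hsurj β
    have hc := hab.is_comm.comm (⟨z, hz⟩ : (P : Subgroup G)) w
    rw [one_smul]
    calc z • w • α = ((⟨z, hz⟩ * w : (P : Subgroup G)) : G) • α := (mul_smul z (w : G) α).symm
      _ = ((w * ⟨z, hz⟩ : (P : Subgroup G)) : G) • α := by rw [hc]
      _ = w • α := by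
        rw [Subgroup.coe_mul, mul_smul, hzα]
        rfl
  refine ⟨fun β => ?_, hfree, ?_⟩
  · obtain ⟨z, hz⟩ := hsurj β
    exact ⟨z, z.2, hz⟩
  · have h7 : Nat.card (P : Subgroup G) = Nat.card Ω :=
      Nat.card_congr (Equiv.ofBijective (fun z : (P : Subgroup G) => z • α)
        ⟨fun z w h => by
          have h8 : (w⁻¹ * z) • α = α := by
            rw [mul_smul, show z • α = w • α from h, inv_smul_smul]
          exact (inv_mul_eq_one.1 (Subtype.ext (hfree _ (w⁻¹ * z).2 h8))).symm, hsurj⟩)
    rw [hPcard, hΩ] at h7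
    exact Nat.pow_right_injective hp.out.two_le h7

/-- The theorem, from `RankOneHalf`. -/
theorem defect_zero_or_solvable (hR : RankOneHalf.{u}) [IsPretransitive G Ω] (hp2 : p ≠ 2)
    (h2G : 2 ∣ Nat.card G)
    (hC : ∀ g : G, g ≠ 1 → (∃ k : ℕ, orderOf g = p ^ k) →
      Odd (Nat.card ↥(Subgroup.centralizer ({g} : Set G))))
    {r : ℕ} (hr : 1 ≤ r) (hΩ : Nat.card Ω = p ^ r) :
    (∃ χ : Cfsg.IrrCharacter G,
        (Cfsg.charDegree (χ : G → ℂ)).factorization p = (Nat.card G).factorization p) ∨
      (Cfsg.IsPSolvable p G ∧ ∃ χ : Cfsg.IrrCharacter G,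
        (Cfsg.charDegree (χ : G → ℂ)).factorization 2 = (Nat.card G).factorization 2) := by
  by_cases hno : ∃ χ : Cfsg.IrrCharacter G,
      (Cfsg.charDegree (χ : G → ℂ)).factorization p = (Nat.card G).factorization p
  · exact Or.inl hno
  haveI : Fact (Nat.Prime 2) := ⟨Nat.prime_two⟩
  obtain ⟨P⟩ : Nonempty (Sylow p G) := inferInstance
  obtain ⟨t, ht⟩ := exists_prime_orderOf_dvd_card' 2 h2G
  obtain ⟨s, y₀, hs, -, hsP, hy₀, hy₀1, -⟩ := ClassCount.sylow_inverted hC hno P ht
  have hab := ClassCount.sylow_abelian_of_inverted P hsP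
  have hΩne : Nonempty Ω := by
    rw [← not_isEmpty_iff]
    intro h
    haveI := h
    exact pow_ne_zero r hp.out.ne_zero (hΩ ▸ Nat.card_of_isEmpty)
  obtain ⟨α₀⟩ := hΩne
  obtain ⟨-, -, hA⟩ := sylow_regular hΩ P hab α₀
  have hpodd : Odd p := hp.out.odd_of_ne_two hp2
  have hPodd : Odd (Nat.card (P : Subgroup G)) := by
    rw [Sylow.card_eq_multiplicity P]
    exact hpodd.pow
  -- every involution fixes exactly one point
  have hfix : ∀ d : G, orderOf d = 2 → ∃! β : Ω, d • β = β := by
    intro d hd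
    obtain ⟨d', y, hd', hdd, hdP, -⟩ := ClassCount.sylow_inverted hC hno P hd
    obtain ⟨c, hc⟩ := isConj_iff.1 hdd
    have hex : ∃ β : Ω, d' • β = β := by
      refine exists_fixed_of_odd (by rw [hΩ]; exact hpodd.pow) (d' • ·) fun β => ?_
      show d' • d' • β = β
      rw [← mul_smul, Involution.mul_self hd', one_smul]
    obtain ⟨β, hβ⟩ := hex
    obtain ⟨hsurj, hfree, -⟩ := sylow_regular hΩ P hab β
    have huniq : ∀ γ : Ω, d' • γ = γ → γ = β := by
      intro γ hγ
      obtain ⟨z, hz, rfl⟩ := hsurj γ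
      have h1 : (z * z) • β = β := by
        have h2 : d' • z • β = z⁻¹ • β := by
          calc d' • z • β = (d' * z * d'⁻¹) • d' • β := by simp only [← mul_smul]; group
            _ = z⁻¹ • β := by rw [hdP z hz, hβ]
        rw [hγ] at h2
        rw [mul_smul, h2, smul_inv_smul]
      have h3 : z * z = 1 := hfree _ (mul_mem hz hz) h1
      have h4 : z = 1 := Bender.odd_eq_one hPodd hz h3
      rw [h4, one_smul]
    refine ⟨c⁻¹ • β, ?_, fun γ hγ => ?_⟩
    · show d • c⁻¹ • β = c⁻¹ • β
      calc d • c⁻¹ • β = c⁻¹ • (c * d * c⁻¹) • β := by simp only [← mul_smul]; group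
        _ = c⁻¹ • β := by rw [hc, hβ]
    · rw [← huniq (c • γ) (by rw [← hc, mul_smul, mul_smul, inv_smul_smul, hγ]), inv_smul_smul]
  -- the stabiliser is strongly embedded
  obtain ⟨α, hα, -⟩ := hfix t ht
  set H := stabilizer G α with hH
  have hidx : H.index = p ^ r := by rw [hH, index_stabilizer_of_transitive, hΩ]
  have htH : t ∈ H := hα
  have hSE : IsStronglyEmbedded H := by
    refine Involution.isStronglyEmbedded_iff_forall.2 ⟨fun e => ?_, ?_, ?_⟩
    · rw [e, Subgroup.index_top] at hidx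
      exact (Nat.one_lt_pow (by omega) hp.out.one_lt).ne hidx
    · exact even_iff_two_dvd.2 (ht ▸ Subgroup.orderOf_dvd_natCard _ htH)
    · intro g d hd hdH hgd
      have h1 : d • g⁻¹ • α = g⁻¹ • α := by
        calc d • g⁻¹ • α = g⁻¹ • (g * d * g⁻¹) • α := by simp only [← mul_smul]; group
          _ = g⁻¹ • α := by rw [MulAction.mem_stabilizer_iff.1 hgd]
      have h2 := (hfix d hd).unique h1 hdH
      rw [hH, mem_stabilizer_iff]
      exact (inv_smul_eq_iff.1 h2).symm
  have hcore : H.normalCore = ⊥ := by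
    refine (Subgroup.eq_bot_iff_forall _).2 fun x hx => eq_of_smul_eq_smul (α := Ω) fun β => ?_
    obtain ⟨g, rfl⟩ := exists_smul_eq G α β
    have h1 : g⁻¹ * x * g ∈ H := by
      have := H.normalCore_le (H.normalCore_normal.conj_mem x hx g⁻¹)
      rwa [inv_inv] at this
    rw [one_smul]
    calc x • g • α = g • (g⁻¹ * x * g) • α := by simp only [← mul_smul]; group
      _ = g • α := by rw [MulAction.mem_stabilizer_iff.1 h1]
  by_cases h2inv : SuzukiRankOne.TwoInvolutions G
  · -- doubly transitive: a character of `p`-defect zero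
    exfalso
    obtain ⟨u, Q, hset⟩ := hR G H hSE hcore h2inv
    have hu2 : orderOf u = 2 := Involution.orderOf_of_sq hset.mul_self hset.ne_one
    have hab' : ((1 : G) : G ⧸ H) ≠ u • ((1 : G) : G ⧸ H) := fun e => hset.not_mem e.symm
    obtain ⟨d, e, hdH, heH, hd, he, hde, -⟩ := exists_four_mem hSE h2inv
    have PC := pointClass_of_stronglyEmbedded hSE
    have hpt : ∀ w ∈ H, orderOf w = 2 → fixPt H w = ((1 : G) : G ⧸ H) := fun w hw hw2 =>
      ((PC.fixed_iff w hw2 _).1 (smul_one_eq.2 hw)).symm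
    obtain ⟨k, ⟨⟨hk, hki⟩, hkd⟩, -⟩ := existsUnique_inverted_conj PC
      (fun x z hxz => Involution.odd_two_point hSE hxz) hu2 rfl hab' hd (hpt d hdH hd) he
      (hpt e heH he)
    have hk1 : k ≠ 1 := fun h => hde (by rw [← hkd, h]; group)
    obtain ⟨χ, hχ⟩ := exists_irr_index_dvd hset hk hk1
      (by rw [Involution.inv_eq hu2] at hki; exact hki)
    refine hno ⟨χ, factorization_eq_of_dvd hp.out Nat.card_pos.ne' ?_ (ClassCount.degree_dvd_card χ)⟩
    refine dvd_trans ?_ hχ
    have hst : stabilizer G ((1 : G) : G ⧸ H) = H := by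
      ext g
      exact smul_one_eq
    rw [hst, hidx, hA]
  · -- one involution per centraliser
    refine Or.inr ?_
    set N := Cfsg.pPrimeCore 2 G with hNdef
    haveI : N.Normal := Cores.pPrimeCore_normal 2 G
    have hNodd : Odd (Nat.card N) := Nat.coprime_two_right.1 (Cores.coprime_card_pPrimeCore 2)
    obtain ⟨hsup, -⟩ := isolated_case h2inv s hs
    have hCp : ¬ p ∣ Nat.card ↥(Subgroup.centralizer ({s} : Set G)) := by
      intro hdvd
      obtain ⟨⟨z, hz⟩, hzo⟩ := exists_prime_orderOf_dvd_card' p hdvd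
      rw [Subgroup.orderOf_mk] at hzo
      have hz1 : z ≠ 1 := fun e => hp.out.one_lt.ne (by rw [← hzo, e, orderOf_one])
      have h1 := hC z hz1 ⟨1, by rw [hzo, pow_one]⟩
      have h2 := Subgroup.orderOf_dvd_natCard (Subgroup.centralizer ({z} : Set G))
        (x := s) (Subgroup.mem_centralizer_singleton_iff.2
          (Subgroup.mem_centralizer_singleton_iff.1 hz).symm)
      rw [hs] at h2
      exact Nat.two_dvd_ne_zero.2 (Nat.odd_iff.1 h1) h2
    have hdecomp : ∀ g : G, ∃ n ∈ N, ∃ c ∈ Subgroup.centralizer ({s} : Set G), n * c = g := by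
      intro g
      have hg : g ∈ (↑(N ⊔ Subgroup.centralizer ({s} : Set G)) : Set G) := by rw [hsup]; trivial
      rw [Subgroup.normal_mul] at hg
      obtain ⟨n, hn, c, hc, rfl⟩ := hg
      exact ⟨n, hn, c, hc, rfl⟩
    have hidxN : N.index.Coprime p := by
      have h1 : N.index ∣ Nat.card ↥(Subgroup.centralizer ({s} : Set G)) :=
        Subgroup.card_dvd_of_surjective ((QuotientGroup.mk' N).comp
          (Subgroup.centralizer ({s} : Set G)).subtype) fun q => by
            obtain ⟨g, rfl⟩ := QuotientGroup.mk'_surjective N q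
            obtain ⟨n, hn, c, hc, rfl⟩ := hdecomp g
            refine ⟨⟨c, hc⟩, ?_⟩
            show QuotientGroup.mk' N c = QuotientGroup.mk' N (n * c)
            rw [map_mul, show QuotientGroup.mk' N n = 1 from (QuotientGroup.eq_one_iff n).2 hn,
              one_mul]
      exact ((hp.out.coprime_iff_not_dvd.2 fun h => hCp (h.trans h1))).symm
    have hy₀N : y₀ ∈ N := by
      rw [← QuotientGroup.eq_one_iff, ← orderOf_eq_one_iff]
      obtain ⟨k, hk⟩ := IsPGroup.iff_orderOf.1 P.isPGroup' ⟨y₀, hy₀⟩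
      rw [Subgroup.orderOf_mk] at hk
      have h1 : orderOf (y₀ : G ⧸ N) ∣ p ^ k := hk ▸ orderOf_map_dvd (QuotientGroup.mk' N) y₀
      exact Nat.eq_one_of_dvd_coprimes (hidxN.symm.pow_left k) h1 (orderOf_dvd_natCard _)
    refine ⟨?_, ?_⟩
    · haveI : Group.IsSolvable N := OddOrderTheorem.solvable hNodd
      exact FusionResidual.isPSolvable_of_normal _ N rfl inferInstance
        (ClassIndex.isPSolvable_of_isSolvable N inferInstance) (Or.inr hidxN)
    · have hconj : ∀ w : G, orderOf w = 2 → ∃ n ∈ N, n * s * n⁻¹ = w := by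
        intro w hw
        obtain ⟨g, hg⟩ := isConj_iff.1 (ClassCount.isConj_involutions hC hno P hs hw)
        obtain ⟨n, hn, c, hc, rfl⟩ := hdecomp g
        refine ⟨n, hn, ?_⟩
        rw [← hg, mul_inv_rev,
          show n * c * s * (c⁻¹ * n⁻¹) = n * (c * s * c⁻¹) * n⁻¹ by group,
          Subgroup.mem_centralizer_singleton_iff.1 hc, mul_inv_cancel_right]
      obtain ⟨χ, hχ⟩ := exists_irr_two_part_dvd hNodd hy₀N hy₀1 (hsP y₀ hy₀) hconj
      exact ⟨χ, factorization_eq_of_dvd Nat.prime_two Nat.card_pos.ne' hχ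
        (ClassCount.degree_dvd_card χ)⟩

end Cfsg.Agent.DefectInduced
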